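/-
S4984, block PT: point characters.  f.O acts on Pt f by map; R W W' := W <> W' and W' <= perp W; Witt
gives rank 2 (r = 1) resp. 3.  n(r) = np q r e/(q-1); k = q n(r-1), lam = q - 1 + q^2 n(r-2),
mu = n(r-1) (count singular vectors in x^perp, <x,y>^perp with ty_UU, card_sing), s = q^(r-1) - 1,
t = -q^(r+e-2) - 1.  Degrees from the value formula at g = 1.  A reflection moves a point to a
non-orthogonal point.
-/
import Cfsg.Agent.CLAS.DG4.Cnt
import Cfsg.Agent.CLAS.DG4.T2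

set_option autoImplicit false

namespace CL.DG4

open Cfsg CL.Witt CL.Zel Module Submodule
open scoped ComplexConjugate

variable {F V : Type} [Field F] [Fintype F] [DecidableEq F] [AddCommGroup V] [Module F V]
  [Finite V] {T : FormType F} {f : Form T V} {r e a : ℕ}

namespace PT

instance finPt : Finite (Pt f) :=
  have : Finite (Submodule F V) := .of_injective _ SetLike.coe_injective
  inferInstance

instance act : MulAction f.O (Pt f) where
  smul g W := ⟨W.1.map (g.1 : V →ₗ[F] V), (LinearEquiv.finrank_map_eq _ _).trans W.2.1, W.2.2.map (f.mem_O.1 g.2)⟩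
  one_smul W := Subtype.ext (map_id _)
  mul_smul g h W := Subtype.ext (map_comp (h.1 : V →ₗ[F] V) (g.1 : V →ₗ[F] V) W.1)

theorem fix_eq (g : f.O) : fixPt f g = Nat.card {W : Pt f // g • W = W} :=
  Nat.card_congr (Equiv.subtypeEquivRight fun _ => ⟨fun e => Subtype.ext e, fun e => congrArg Subtype.val e⟩)

/-- the point spanned by a singular vector -/
def pt (x : V) (h0 : x ≠ 0) (hq : f.q x = 0) : Pt f :=
  ⟨F ∙ x, finrank_span_singleton h0, f.totSing_span_singleton hq⟩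

theorem eq_pt {W : Pt f} {x : V} (hx : x ∈ W.1) (h0 : x ≠ 0) (hq : f.q x = 0) : pt x h0 hq = W :=
  Subtype.ext (eq_of_le_of_finrank_eq ((span_singleton_le_iff_mem _ _).2 hx)
    ((finrank_span_singleton h0).trans W.2.1.symm))

theorem ex (W : Pt f) : ∃ x h0 hq, pt x h0 hq = W := by
  obtain ⟨x, hx, h0⟩ := W.1.exists_mem_ne_zero_of_ne_bot fun e => by
    have := W.2.1; rw [e] at this; simp at this
  exact ⟨x, h0, W.2.2.1 x hx, eq_pt hx _ _⟩

theorem smul_pt (g : f.O) {x y : V} (h0 hq h0' hq') (e : g.1 x = y) : g • pt (f := f) x h0 hq = pt y h0' hq' :=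
  Subtype.ext ((map_span _ _).trans (by rw [Set.image_singleton]; exact congrArg (fun z => span F {z}) e))

theorem le_pt {x : V} {h0 hq} {H : Submodule F V} : (pt (f := f) x h0 hq).1 ≤ H ↔ x ∈ H :=
  span_singleton_le_iff_mem _ _

theorem perp_pt {x y : V} {h0 hq h0' hq'} :
    (pt (f := f) y h0' hq').1 ≤ f.perp (pt (f := f) x h0 hq).1 ↔ f.B x y = 0 :=
  le_pt.trans f.mem_perp_span_singleton

theorem indep {x y : V} {h0 hq h0' hq'} (n : pt (f := f) x h0 hq ≠ pt y h0' hq') : LinearIndependent F ![x, y] :=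
  (LinearIndependent.pair_iff' h0).2 fun c e => n (eq_pt (e ▸ smul_mem _ c (mem_span_singleton_self x)) _ _).symm

theorem card_res (H : Submodule F V) : Nat.card (Pt (f.restrict H)) = {W : Pt f | W.1 ≤ H}.ncard := by
  refine Nat.card_congr (Equiv.ofBijective (fun W => (⟨⟨W.1.map H.subtype, (finrank_map_subtype_eq _ _).trans W.2.1,
    W.2.2.map (f.isIsom_comap H.subtype)⟩, map_subtype_le _ _⟩ : {W : Pt f | W.1 ≤ H})) ⟨fun W W' e => ?_, ?_⟩)
  · exact Subtype.ext (map_injective_of_injective H.injective_subtype (congrArg (·.1.1) e))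
  · rintro ⟨W, hW⟩
    have e : (W.1.comap H.subtype).map H.subtype = W.1 := (map_comap_subtype _ _).trans (inf_eq_right.2 hW)
    exact ⟨⟨W.1.comap H.subtype, by rw [← finrank_map_subtype_eq, e, W.2.1],
      fun w hw => W.2.2.1 _ hw, fun w hw w' hw' => W.2.2.2 _ hw _ hw'⟩, Subtype.ext (Subtype.ext e)⟩

theorem card_Pt (f : Form T V) :
    Nat.card (Pt f) * (Fintype.card F - 1) = Nat.card {v // v ≠ 0 ∧ f.q v = 0} := by
  have := Fintype.ofFinite (Pt f)
  rw [← Nat.card_congr (Equiv.sigmaFiberEquiv fun v : {v // v ≠ 0 ∧ f.q v = 0} => pt v.1 v.2.1 v.2.2), Nat.card_sigma,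
    Finset.sum_const_nat (m := Fintype.card F - 1) fun W _ => ?_, Nat.card_eq_fintype_card, Finset.card_univ]
  rw [← Nat.card_eq_fintype_card, ← show Nat.card W.1 = Nat.card F by rw [card_submodule_eq_pow, W.2.1, pow_one],
    ← card_subtype_ne_zero]
  refine (Nat.card_congr (Equiv.ofBijective (fun w : {w : W.1 // w ≠ 0} => ⟨⟨w.1, by simpa using w.2, W.2.2.1 _ w.1.2⟩,
    eq_pt w.1.2 _ _⟩) ⟨fun w w' e => ?_, ?_⟩)).symm
  · exact Subtype.ext (Subtype.ext (congrArg (·.1.1) e))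
  · rintro ⟨v, rfl⟩
    exact ⟨⟨⟨v.1, mem_span_singleton_self _⟩, fun e => v.2.1 (congrArg Subtype.val e)⟩, rfl⟩

theorem card_sing (f : Form T V) : Nat.card {v // v ≠ 0 ∧ f.q v = 0} + 1 = Nat.card {v // f.q v = 0} := by
  rw [show Nat.card {v // v ≠ 0 ∧ f.q v = 0} = ({v | f.q v = 0} \ {0} : Set V).ncard from
    Nat.card_congr (Equiv.subtypeEquivRight fun v => and_comm)]
  exact Set.ncard_sdiff_singleton_add_one (s := {v | f.q v = 0}) f.q_zero

/-- singular points orthogonal to a totally singular subspace -/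
theorem card_perp (h : Ty f r e) {W : Submodule F V} (hW : f.TotSing W) (ha : finrank F W = a) :
    a ≤ r ∧ {Z : Pt f | Z.1 ≤ f.perp W}.ncard * (Fintype.card F - 1) + 1 =
      Fintype.card F ^ a * (np (Fintype.card F) (r - a) e + 1) := by
  obtain ⟨x, x', hx, rfl⟩ := h.1.exists_isHyp_of_totSing hW ha
  refine ⟨h.le_of_isHyp hx, ?_⟩
  have le : span F (Set.range x) ≤ span F (Set.range (Sum.elim x x')) :=
    span_mono (by rintro _ ⟨i, rfl⟩; exact ⟨.inl i, rfl⟩)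
  have le' := f.perp_anti le
  rw [← card_res, card_Pt, card_sing, ← (h.ty_UU hx).card_sing, card_sing,
    ← show Nat.card (span F (Set.range x)) = Fintype.card F ^ a by rw [card_submodule_eq_pow, ha, Nat.card_eq_fintype_card],
    ← Nat.card_prod]
  refine (Nat.card_congr (Equiv.ofBijective (fun p => ⟨⟨p.1 + p.2.1, add_mem (hW.le_perp p.1.2) (le' p.2.1.2)⟩,
    (f.q_add_of_B_eq_zero (f.mem_perp.1 (le' p.2.1.2) _ p.1.2)).trans (by
      rw [hW.1 _ p.1.2, zero_add]; exact p.2.2)⟩) ⟨fun p p' e => ?_, ?_⟩)).symm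
  · have e1 : (p.1 : V) + p.2.1 = p'.1 + p'.2.1 := congrArg (·.1.1) e
    have e2 : (p.1 : V) - p'.1 = p'.2.1 - p.2.1 := by rw [sub_eq_sub_iff_add_eq_add, e1, add_comm]
    have e3 := disjoint_def.1 hx.isCompl.disjoint _ (le (sub_mem p.1.2 p'.1.2)) (e2 ▸ sub_mem p'.2.1.2 p.2.1.2)
    exact Prod.ext (Subtype.ext (sub_eq_zero.1 e3)) (Subtype.ext (Subtype.ext (sub_eq_zero.1 (e2 ▸ e3)).symm))
  · rintro ⟨⟨v, hv⟩, hq⟩
    have m : ∀ i, x i ∈ span F (Set.range x) := fun i => subset_span ⟨i, rfl⟩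
    have p := hx.sub_mem_perp v
    simp only [f.mem_perp.1 hv _ (m _), zero_smul, Finset.sum_const_zero, add_zero] at p
    have s := sum_mem fun i (_ : i ∈ Finset.univ) => smul_mem _ (T.ε * f.B (x' i) v) (m i)
    refine ⟨(⟨_, s⟩, ⟨⟨_, p⟩, ?_⟩), Subtype.ext (Subtype.ext (add_sub_cancel _ _))⟩
    have := f.q_add_of_B_eq_zero (f.mem_perp.1 (le' p) _ s)
    rw [add_sub_cancel, hW.1 _ s, zero_add] at this
    exact this.symm.trans hq

/-- collinearity -/
def R (W W' : Pt f) : Prop := W ≠ W' ∧ W'.1 ≤ f.perp W.1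

theorem R.symm {W W' : Pt f} (h : R W W') : R W' W := ⟨h.1.symm, f.le_perp_comm.1 h.2⟩

theorem R.two {W W' : Pt f} (h : R W W') : f.TotSing (W.1 ⊔ W'.1) ∧ finrank F (W.1 ⊔ W'.1 : Submodule F V) = 2 := by
  obtain ⟨x, h0, hq, rfl⟩ := ex W
  obtain ⟨y, h0', hq', rfl⟩ := ex W'
  refine ⟨(f.totSing_span_singleton hq).sup_span hq' (le_pt.1 h.2), ?_⟩
  have := finrank_span_eq_card (indep h.1)
  rwa [Matrix.range_cons_cons_empty, span_insert, Fintype.card_fin] at this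

theorem trans (hf : f.Nondeg) (W Z W' Z' : Pt f) (n : W ≠ Z) (n' : W' ≠ Z') (h : R W Z ↔ R W' Z') :
    ∃ g : f.O, g • W = W' ∧ g • Z = Z' := by
  obtain ⟨x, x0, xq, rfl⟩ := ex W
  obtain ⟨y, y0, yq, rfl⟩ := ex Z
  obtain ⟨x', x0', xq', rfl⟩ := ex W'
  obtain ⟨y', y0', yq', rfl⟩ := ex Z'
  simp only [R, n, n', ne_eq, not_false_eq_true, true_and, perp_pt] at h
  obtain ⟨c, c0, hc⟩ : ∃ c : F, c ≠ 0 ∧ f.B x' (c • y') = f.B x y := by
    by_cases e : f.B x y = 0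
    · exact ⟨1, one_ne_zero, by rw [one_smul, e, h.1 e]⟩
    · have e' := mt h.2 e
      exact ⟨f.B x y / f.B x' y', div_ne_zero e e', by rw [f.B_smul_right, div_mul_cancel₀ _ e']⟩
  have e := eq_pt (W := pt y' y0' yq') (smul_mem _ c (mem_span_singleton_self y')) (smul_ne_zero c0 y0')
    (f.q_smul_eq_zero yq' c)
  rw [← e] at n' ⊢
  obtain ⟨g, hg, e1, e2⟩ := hf.witt_pair (indep n) (indep n') (xq'.trans xq.symm)
    ((f.q_smul_eq_zero yq' c).trans yq.symm) hc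
  exact ⟨⟨g, hg⟩, smul_pt _ _ _ _ _ e1, smul_pt _ _ _ _ _ e2⟩

theorem fix_iff {g : f.O} {v : V} (hv : f.q v ≠ 0) (hg : ∀ y, g.1 y = y - ((f.q v)⁻¹ * f.B v y) • v) (W : Pt f) :
    g • W = W ↔ W.1 ≤ f.perp (F ∙ v) := by
  obtain ⟨x, x0, xq, rfl⟩ := ex W
  rw [le_pt, f.mem_perp_span_singleton]
  refine ⟨fun e => by_contra fun n => hv ?_, fun e => smul_pt _ _ _ _ _ (by rw [hg, e, mul_zero, zero_smul, sub_zero])⟩
  have m : g.1 x ∈ (pt x x0 xq).1 := e ▸ mem_map_of_mem (f := (g.1 : V →ₗ[F] V)) (mem_span_singleton_self x)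
  have := sub_mem (mem_span_singleton_self x) m
  rw [hg, sub_sub_cancel, smul_mem_iff _ (mul_ne_zero (inv_ne_zero hv) n)] at this
  exact (pt x x0 xq).2.2.1 v this

theorem not_R {g : f.O} (hg : IsRefl g) (W : Pt f) : ¬ R W (g • W) := fun h => by
  obtain ⟨v, hv, hg⟩ := hg
  refine h.1 ((fix_iff hv hg W).2 ?_).symm
  obtain ⟨x, x0, xq, rfl⟩ := ex W
  have := f.mem_perp_span_singleton.1 (h.2 (mem_map_of_mem (f := (g.1 : V →ₗ[F] V)) (mem_span_singleton_self x)))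
  rw [LinearEquiv.coe_coe, hg, f.B_sub_right, f.B_self_eq_zero xq, f.B_smul_right, zero_sub, neg_eq_zero] at this
  rw [le_pt, f.mem_perp_span_singleton]
  by_contra n
  exact mul_ne_zero (mul_ne_zero (inv_ne_zero hv) n) (mt f.B_eq_zero_symm n) this

theorem ck (h : Ty f r e) (W : Pt f) :
    (Nat.card {Z // R W Z} + 1) * (Fintype.card F - 1) + 1 = Fintype.card F * (np (Fintype.card F) (r - 1) e + 1) := by
  have := (card_perp h W.2.2 W.2.1).2
  rw [← Set.ncard_sdiff_singleton_add_one (a := W) W.2.2.le_perp, pow_one] at this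
  rw [← this]
  congr 3
  exact Nat.card_congr (Equiv.subtypeEquivRight fun Z => ⟨fun a => ⟨a.2, a.1.symm⟩, fun a => ⟨Ne.symm a.2, a.1⟩⟩)

theorem cl (h : Ty f r e) {W W' : Pt f} (k : R W W') :
    (Nat.card {Z // R W Z ∧ R W' Z} + 2) * (Fintype.card F - 1) + 1 =
      Fintype.card F ^ 2 * (np (Fintype.card F) (r - 2) e + 1) := by
  have := (card_perp h k.two.1 k.two.2).2
  rw [← Set.ncard_sdiff_singleton_add_one (a := W) (s := {Z : Pt f | Z.1 ≤ f.perp (W.1 ⊔ W'.1)})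
    (le_sup_left.trans k.two.1.le_perp), ← Set.ncard_sdiff_singleton_add_one (a := W')
    (s := {Z : Pt f | Z.1 ≤ f.perp (W.1 ⊔ W'.1)} \ {W}) ⟨le_sup_right.trans k.two.1.le_perp, k.1.symm⟩,
    f.perp_sup] at this
  rw [← this, add_assoc _ 1 1]
  congr 3
  exact Nat.card_congr (Equiv.subtypeEquivRight fun Z => ⟨fun a => ⟨⟨le_inf a.1.2 a.2.2, a.1.1.symm⟩, a.2.1.symm⟩,
    fun a => ⟨⟨Ne.symm a.1.2, a.1.1.trans inf_le_left⟩, Ne.symm a.2, a.1.1.trans inf_le_right⟩⟩)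

theorem cm (h : Ty f r e) {W W' : Pt f} (n : W ≠ W') (k : ¬ R W W') :
    Nat.card {Z // R W Z ∧ R W' Z} * (Fintype.card F - 1) = np (Fintype.card F) (r - 1) e := by
  have k1 : ¬ W'.1 ≤ f.perp W.1 := fun e => k ⟨n, e⟩
  have : Nat.card {Z // R W Z ∧ R W' Z} = {Z : Pt f | Z.1 ≤ f.perp (W.1 ⊔ W'.1)}.ncard := by
    rw [f.perp_sup]
    exact Nat.card_congr (Equiv.subtypeEquivRight fun Z => ⟨fun a => le_inf a.1.2 a.2.2, fun a =>
      ⟨⟨fun e => k1 (f.le_perp_comm.1 (e ▸ a.trans inf_le_right)), a.trans inf_le_left⟩,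
        fun e => k1 (e ▸ a.trans inf_le_left), a.trans inf_le_right⟩⟩)
  rw [this, ← card_res]
  obtain ⟨x, x0, xq, rfl⟩ := ex W
  obtain ⟨y, y0, yq, rfl⟩ := ex W'
  rw [perp_pt] at k1
  have e1 := eq_pt (W := pt y y0 yq) (smul_mem _ (f.B x y)⁻¹ (mem_span_singleton_self y))
    (smul_ne_zero (inv_ne_zero k1) y0) (f.q_smul_eq_zero yq _)
  have := (h.ty_UU (f.isHyp_unique (ι := Fin 1) xq (f.q_smul_eq_zero yq (f.B x y)⁻¹)
    (by rw [f.B_smul_right, inv_mul_cancel₀ k1]))).card_Pt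
  rwa [UU, Form.range_elim_unique, span_insert, show F ∙ (f.B x y)⁻¹ • y = (pt y y0 yq).1 from congrArg (·.1) e1]
    at this

end PT
open PT

theorem pt2 (h : Ty f 1 e) (he : 1 ≤ e) :
    ∃ ψ : f.O → ℂ, IsIrrCharacter _ ψ ∧ ψ 1 = (Fintype.card F ^ e : ℕ) ∧ PtC f ψ := by
  have q1 : 0 < Fintype.card F - 1 := Nat.sub_pos_of_lt Fintype.one_lt_card
  have c : Nat.card (Pt f) = Fintype.card F ^ e + 1 := Nat.eq_of_mul_eq_mul_right q1 (by
    rw [h.card_Pt, np, pow_one, Nat.add_sub_cancel_left, mul_comm])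
  have n : ∀ W W' : Pt f, ¬ R W W' := fun W W' k => by
    have := (card_perp h k.two.1 k.two.2).1; omega
  refine ⟨_, rank2 (G := f.O) (X := Pt f) (by have := Nat.one_le_pow e _ (Fintype.card_pos (α := F)); omega)
    fun x y x' y' a b => trans h.1 x y x' y' a b (iff_of_false (n _ _) (n _ _)), ?_,
    fun _ => 1, CL.Char.isCharacter_one, fun g => by rw [fix_eq, sub_add_cancel]⟩
  simp only [one_smul]
  rw [Nat.card_congr (Equiv.subtypeUnivEquiv fun _ => trivial), c]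
  simp

theorem pt3 (h : Ty f r e) (hr : 2 ≤ r) {q : ℕ} (hq : Fintype.card F = q) :
    ∃ (χf χg : f.O → ℂ) (df dg k : ℕ), IsIrrCharacter _ χf ∧ IsIrrCharacter _ χg ∧
      PtC f χf ∧ PtC f χg ∧ χf 1 = df ∧ χg 1 = dg ∧
      df * ((q - 1) * (q ^ e + q)) = q ^ (e + 1) * (q ^ r - 1) * (q ^ (r + e - 2) + 1) ∧
      dg * ((q - 1) * (q ^ e + q)) = q ^ 2 * (q ^ (r - 1) - 1) * (q ^ (r + e - 1) + 1) ∧
      k * (q - 1) = q * np q (r - 1) e ∧
      ∀ g, IsRefl g → ((q : ℂ) ^ (r - 1) + q ^ (r + e - 2)) * χf g =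
        (q ^ (r + e - 2) + 1) * fixPt f g - (k + q ^ (r + e - 2) + 1) := by
  obtain ⟨m, rfl⟩ := Nat.exists_eq_add_of_le' hr
  have q2 : 1 < q := hq ▸ Fintype.one_lt_card
  obtain ⟨x, x', hx⟩ := h.exists_isHyp hr
  have x0 := hx.linearIndependent_left.ne_zero
  have hR : R (pt (x 0) (x0 0) (hx.q_left 0)) (pt (x 1) (x0 1) (hx.q_left 1)) := ⟨fun e => by
    have : (pt (x 1) (x0 1) (hx.q_left 1)).1 ≤ f.perp (F ∙ x' 0) :=
      le_pt.2 (f.mem_perp_span_singleton.2 (hx.B_ne' (by decide)))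
    rw [← e, le_pt, f.mem_perp_span_singleton, hx.B_self'] at this
    exact T.ε_ne_zero this, perp_pt.2 (hx.B_left 0 1)⟩
  have n0 : ¬ (pt (x' 0) (hx.linearIndependent_right.ne_zero 0) (hx.q_right 0)).1 ≤
      f.perp (pt (x 0) (x0 0) (hx.q_left 0)).1 := by rw [perp_pt, hx.B_self]; exact one_ne_zero
  have n1 : pt (x 0) (x0 0) (hx.q_left 0) ≠ pt (x' 0) (hx.linearIndependent_right.ne_zero 0) (hx.q_right 0) :=
    fun e => n0 (e ▸ (pt (x 0) (x0 0) (hx.q_left 0)).2.2.le_perp)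
  have n2 : ¬ R _ _ := fun k : R _ _ => n0 k.2
  have k1 := ck h (pt (x 0) (x0 0) (hx.q_left 0))
  have l1 := cl h hR
  have m1 := cm h n1 n2
  have c1 := h.card_Pt
  have q1 : 0 < Fintype.card F - 1 := Nat.sub_pos_of_lt Fintype.one_lt_card
  have hk := fun W => Nat.add_right_cancel (Nat.eq_of_mul_eq_mul_right q1
    (Nat.add_right_cancel ((ck h W).trans k1.symm)))
  have hl := fun W W' (k : R W W') => Nat.add_right_cancel (Nat.eq_of_mul_eq_mul_right q1
    (Nat.add_right_cancel ((cl h k).trans l1.symm)))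
  have hm := fun W W' (n : W ≠ W') (k : ¬ R W W') => Nat.eq_of_mul_eq_mul_right q1 ((cm h n k).trans m1.symm)
  generalize Nat.card {Z // R (pt (x 0) (x0 0) (hx.q_left 0)) Z} = k at hk k1
  generalize Nat.card {Z // R (pt (x 0) (x0 0) (hx.q_left 0)) Z ∧ R (pt (x 1) (x0 1) (hx.q_left 1)) Z} = lam at hl l1
  generalize Nat.card {Z // R (pt (x 0) (x0 0) (hx.q_left 0)) Z ∧
    R (pt (x' 0) (hx.linearIndependent_right.ne_zero 0) (hx.q_right 0)) Z} = mu at hm m1
  rw [hq] at k1 l1 m1 c1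
  have k2 : k * (q - 1) = q * np q (m + 2 - 1) e := by
    obtain ⟨p, rfl⟩ := Nat.exists_eq_add_of_le' q2.le
    rw [Nat.add_sub_cancel] at k1 ⊢
    nlinarith
  have a1 : ∀ n, 1 ≤ q ^ n := fun n => Nat.one_le_pow n q (by omega)
  have l2 : q * np q (m + 2 - 2) e = (q ^ m - 1) * (q ^ m * q ^ e + q) := by
    rw [Nat.add_sub_cancel, np]
    rcases m with _ | m
    · simp
    · rw [show m + 1 + e - 1 = m + e by omega]; ring
  rw [mul_add, pow_two, mul_assoc, l2] at l1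
  have k3 := k2
  simp only [np, show m + 2 - 1 = m + 1 from rfl, show m + 1 + e - 1 = m + e by omega,
    show m + 2 + e - 1 = m + e + 1 by omega, show m + 2 + e - 2 = m + e by omega] at k3 m1 c1 ⊢
  have qz : (q : ℤ) - 1 ≠ 0 := by omega
  zify [a1, q2.le] at k3 l1 m1 c1
  obtain ⟨χ, ξ, i1, i2, sm, val⟩ := rank3 (G := f.O) (X := Pt f) R (fun _ _ => R.symm) (fun _ k => k.1 rfl)
    (fun g W W' k => ⟨fun e => k.1 (MulAction.injective g e),
      (map_mono k.2).trans ((f.mem_O.1 g.2).map_perp _).le⟩) (trans h.1) ⟨_, _, hR⟩ ⟨_, _, n1, n2⟩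
    (s := q ^ (m + 1) - 1) (t := -q ^ (m + e) - 1) hk hl hm
    (mul_right_cancel₀ qz (by linear_combination m1 - l1)) (mul_right_cancel₀ qz (by linear_combination k3 - m1))
    (by have := a1 (m + 1); have := a1 (m + e); zify at *; omega)
  obtain ⟨df, hf⟩ := i1.isCharacter.exists_nat_degree
  obtain ⟨dg, hg⟩ := i2.isCharacter.exists_nat_degree
  have s1 := sm 1
  have v1 := val 1
  simp only [one_smul, show ∀ W : Pt f, R W W ↔ False from fun W => iff_false_intro fun k => k.1 rfl] at s1 v1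
  rw [Nat.card_congr (Equiv.subtypeUnivEquiv fun _ => trivial), hf] at s1 v1
  rw [hg] at s1
  rw [Nat.card_of_isEmpty] at v1
  have s2 : (1 : ℤ) + df + dg = Nat.card (Pt f) := by exact_mod_cast s1
  have v2 : ((q : ℤ) ^ (m + 1) - 1 - (-q ^ (m + e) - 1)) * df =
      0 - (-q ^ (m + e) - 1) * Nat.card (Pt f) - (k - (-q ^ (m + e) - 1)) := by exact_mod_cast v1
  have qm : (q : ℤ) ^ m ≠ 0 := pow_ne_zero _ (by omega)
  have d1 : (df : ℤ) * ((q - 1) * (q ^ e + q)) = q ^ (e + 1) * (q ^ (m + 2) - 1) * (q ^ (m + e) + 1) :=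
    mul_left_cancel₀ qm (by linear_combination (q - 1) * v2 + (q ^ (m + e) + 1) * c1 - k3)
  refine ⟨χ, ξ, df, dg, k, i1, i2, ⟨_, CL.Char.isCharacter_one.add i2.isCharacter, fun g => ?_⟩,
    ⟨_, CL.Char.isCharacter_one.add i1.isCharacter, fun g => ?_⟩, hf, hg, ?_, ?_, ?_, fun g hg => ?_⟩
  · rw [fix_eq, ← sm, Pi.add_apply]; ring
  · rw [fix_eq, ← sm, Pi.add_apply]; ring
  · zify [a1, q2.le]; exact d1
  · zify [a1, q2.le]
    linear_combination (q - 1) * (q ^ e + q) * s2 + (q ^ e + q) * c1 - d1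
  · zify [a1, q2.le]; exact k3
  · have := val g
    simp only [show ∀ W : Pt f, R W (g • W) ↔ False from fun W => iff_false_intro (not_R hg W)] at this
    rw [Nat.card_of_isEmpty] at this
    rw [fix_eq]
    push_cast at this
    linear_combination this

/-- The fixed points of a reflection are the singular points of its hyperplane. -/
theorem fixPt_refl (hT : T = .quad F) {g : f.O} {v : V} (hv : f.q v ≠ 0)
    (hg : ∀ y, g.1 y = y - ((f.q v)⁻¹ * f.B v y) • v) :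
    fixPt f g = Nat.card (Pt (f.restrict (f.perp (F ∙ v)))) := by
  rw [fix_eq, card_res]
  exact Nat.card_congr (Equiv.subtypeEquivRight (fix_iff hv hg))

end CL.DG4
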